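import Groth.Agent.PointBC.Basic
import Groth.Agent.FppfSrc.Scheme
import Groth.Agent.FppfSrc.Etale
import Groth.Agent.UnivOpenAtLib.Basic
import Groth.Agent.UnivOpenAtLib.Dvr
/-!
Descent of the maximal open on which a morphism has a property along open base changes.
-/

set_option autoImplicit false
set_option backward.isDefEq.respectTransparency false
set_option backward.isDefEq.respectTransparency.types false
set_option linter.style.haveILetI false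

universe u

open CategoryTheory CategoryTheory.Limits AlgebraicGeometry TopologicalSpace

noncomputable section

namespace Groth.Agent.MaxOpenLib

/-- If the base change of `f` along a flat open `g` has `P` over an open `W₁`, then `f` has `P` over its image. -/
theorem restrict_image_of_isPullback {P : MorphismProperty Scheme.{u}} [P.IsStableUnderBaseChange]
    [IsZariskiLocalAtTarget P] [P.DescendsAlong (@Flat ⊓ @Surjective ⊓ @QuasiCompact)]
    {X Y X' Y' : Scheme.{u}} {a : X' ⟶ X} {f' : X' ⟶ Y'} {f : X ⟶ Y} {g : Y' ⟶ Y} (sq : IsPullback a f' f g)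
    [Flat g] (hg : IsOpenMap g.base) (W₁ : Y'.Opens) (h₁ : P (f' ∣_ W₁)) :
    P (f ∣_ ⟨g '' (W₁ : Set Y'), hg _ W₁.2⟩) := by
  let O : Y.Opens := ⟨g '' (W₁ : Set Y'), hg _ W₁.2⟩
  show P (f ∣_ O)
  -- the restricted square
  let g₁ : W₁.toScheme ⟶ O.toScheme := IsOpenImmersion.lift O.ι (W₁.ι ≫ g) (by
    rintro _ ⟨w, rfl⟩; exact ⟨⟨g w.1, ⟨w.1, w.2, rfl⟩⟩, rfl⟩)
  have hg₁ : g₁ ≫ O.ι = W₁.ι ≫ g := IsOpenImmersion.lift_fac _ _ _
  haveI : Flat (g₁ ≫ O.ι) := by rw [hg₁]; infer_instance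
  haveI : Flat g₁ := MorphismProperty.of_postcomp (W' := @IsOpenImmersion) @Flat g₁ O.ι inferInstance ‹_›
  haveI : Surjective g₁ := ⟨fun ⟨y, hy⟩ => by
    obtain ⟨w, hw, rfl⟩ := hy
    exact ⟨⟨w, hw⟩, O.ι.isOpenEmbedding.injective (by rw [← Scheme.Hom.comp_apply, hg₁]; rfl)⟩⟩
  have sq₁ : IsPullback ((f' ⁻¹ᵁ W₁).ι ≫ a) (f' ∣_ W₁) f (g₁ ≫ O.ι) := by
    rw [hg₁]; exact (isPullback_morphismRestrict f' W₁).flip.paste_horiz sq
  let a₁ : (f' ⁻¹ᵁ W₁).toScheme ⟶ (f ⁻¹ᵁ O).toScheme := (isPullback_morphismRestrict f O).flip.lift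
    ((f' ⁻¹ᵁ W₁).ι ≫ a) ((f' ∣_ W₁) ≫ g₁) (by rw [sq₁.w, Category.assoc])
  have sq₂ : IsPullback a₁ (f' ∣_ W₁) (f ∣_ O) g₁ :=
    IsPullback.of_right (by rw [IsPullback.lift_fst]; exact sq₁)
      (IsPullback.lift_snd _ _ _ _) (isPullback_morphismRestrict f O).flip
  -- reduce to an affine open of the image
  rw [IsZariskiLocalAtTarget.iff_of_iSup_eq_top (P := P) (fun V : O.toScheme.affineOpens => V.1)
    (iSup_affineOpens_eq_top O.toScheme)]
  rintro ⟨V, hV⟩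
  haveI : IsAffine V.toScheme := hV
  have sq₃ : IsPullback ((f' ∣_ W₁) ⁻¹ᵁ (g₁ ⁻¹ᵁ V)).ι ((f' ∣_ W₁) ∣_ (g₁ ⁻¹ᵁ V)) (f' ∣_ W₁) (g₁ ⁻¹ᵁ V).ι :=
    (isPullback_morphismRestrict _ _).flip
  haveI : Surjective (g₁ ∣_ V) := MorphismProperty.of_isPullback (isPullback_morphismRestrict g₁ V).flip ‹Surjective g₁›
  obtain ⟨K, hKc, hKs⟩ : ∃ K : (g₁ ⁻¹ᵁ V).toScheme.Opens, IsCompact (K : Set (g₁ ⁻¹ᵁ V).toScheme) ∧
      (g₁ ∣_ V).base '' (K : Set (g₁ ⁻¹ᵁ V).toScheme) = Set.univ := by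
    let Z := (g₁ ⁻¹ᵁ V).toScheme
    haveI : Flat (g₁ ∣_ V) := inferInstance
    have hop : IsOpenMap (g₁ ∣_ V).base := fun U hU => by
      have h1 := hg _ (W₁.ι.isOpenEmbedding.isOpenMap _ ((g₁ ⁻¹ᵁ V).ι.isOpenEmbedding.isOpenMap _ hU))
      rw [V.ι.isOpenEmbedding.isOpen_iff_image_isOpen, O.ι.isOpenEmbedding.isOpen_iff_image_isOpen]
      convert h1 using 1
      simp only [← Set.image_comp, ← TopCat.coe_comp, ← Scheme.Hom.comp_base]
      congr 2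
      rw [morphismRestrict_ι_assoc, hg₁]
    obtain ⟨t, ht⟩ := CompactSpace.isCompact_univ.elim_finite_subcover
      (fun U : Z.affineOpens => (g₁ ∣_ V).base '' (U.1 : Set Z)) (fun U => hop _ U.1.2) (fun y _ => by
        obtain ⟨z, rfl⟩ := (g₁ ∣_ V).surjective y
        obtain ⟨U, hU, hzU, -⟩ := exists_isAffineOpen_mem_and_subset (x := z) (U := ⊤) trivial
        exact Set.mem_iUnion.2 ⟨⟨U, hU⟩, z, hzU, rfl⟩)
    refine ⟨⨆ U ∈ t, U.1, ?_, Set.eq_univ_of_univ_subset (ht.trans ?_)⟩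
    · simp only [Opens.coe_iSup]
      exact t.finite_toSet.isCompact_biUnion fun U _ => U.2.isCompact
    · rintro y hy
      obtain ⟨U, hU, z, hz, rfl⟩ := Set.mem_iUnion₂.1 hy
      exact ⟨z, by simp only [Opens.coe_iSup, Set.mem_iUnion]; exact ⟨U, hU, hz⟩, rfl⟩
  haveI : CompactSpace K.toScheme := isCompact_iff_compactSpace.1 hKc
  let r : K.toScheme ⟶ V.toScheme := K.ι ≫ g₁ ∣_ V
  haveI : QuasiCompact r := inferInstance
  haveI : Surjective r := ⟨fun y => by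
    obtain ⟨z, hz, rfl⟩ := hKs.superset (Set.mem_univ y)
    exact ⟨⟨z, hz⟩, rfl⟩⟩
  refine MorphismProperty.of_pullback_fst_of_descendsAlong (P := P) (Q := @Flat ⊓ @Surjective ⊓ @QuasiCompact)
    (f := r) ⟨⟨inferInstance, inferInstance⟩, inferInstance⟩ ?_
  have sq₄ : IsPullback (pullback.snd r ((f ∣_ O) ∣_ V) ≫ ((f ∣_ O) ⁻¹ᵁ V).ι) (pullback.fst r ((f ∣_ O) ∣_ V))
      (f ∣_ O) ((K.ι ≫ (g₁ ⁻¹ᵁ V).ι) ≫ g₁) := by
    have h := (IsPullback.of_hasPullback r ((f ∣_ O) ∣_ V)).flip.paste_horiz (isPullback_morphismRestrict (f ∣_ O) V).flip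
    rwa [Category.assoc, morphismRestrict_ι, ← Category.assoc] at h
  have sq₅ := IsPullback.of_right (h₁₁ := sq₂.lift _ _ (sq₄.w.trans (Category.assoc _ _ _).symm))
    (by rw [IsPullback.lift_fst]; exact sq₄) (IsPullback.lift_snd _ _ _ _) sq₂
  exact P.of_isPullback sq₅ h₁

variable {X Y X' Y' : Scheme.{u}} {a : X' ⟶ X} {f' : X' ⟶ Y'} {f : X ⟶ Y} {g : Y' ⟶ Y}

/-- The image of an open of the base change, with the surjection onto it. -/
theorem exists_image (sq : IsPullback a f' f g) [UniversallyOpen g] (U : X'.Opens) :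
    ∃ (O : X.Opens) (q : U.toScheme ⟶ O.toScheme), (O : Set X) = a '' (U : Set X') ∧ Surjective q ∧
      q ≫ O.ι = U.ι ≫ a ∧ q ≫ O.ι ≫ f = (U.ι ≫ f') ≫ g := by
  haveI : UniversallyOpen a := MorphismProperty.of_isPullback sq.flip ‹UniversallyOpen g›
  let O : X.Opens := ⟨a '' (U : Set X'), a.isOpenMap _ U.2⟩
  let q : U.toScheme ⟶ O.toScheme := IsOpenImmersion.lift O.ι (U.ι ≫ a) (by
    rintro _ ⟨w, rfl⟩; exact ⟨⟨a w.1, ⟨w.1, w.2, rfl⟩⟩, rfl⟩)
  have hq : q ≫ O.ι = U.ι ≫ a := IsOpenImmersion.lift_fac _ _ _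
  refine ⟨O, q, rfl, ⟨fun ⟨y, hy⟩ => ?_⟩, hq, by rw [reassoc_of% hq, sq.w, Category.assoc]⟩
  obtain ⟨w, hw, rfl⟩ := hy
  exact ⟨⟨w, hw⟩, O.ι.isOpenEmbedding.injective (by rw [← Scheme.Hom.comp_apply, hq]; rfl)⟩

theorem exists_universallyOpen_of_isPullback (sq : IsPullback a f' f g) [UniversallyOpen g] (U : X'.Opens)
    (hU : UniversallyOpen (U.ι ≫ f')) (z : X') (hz : z ∈ U) :
    ∃ O : X.Opens, a z ∈ O ∧ UniversallyOpen (O.ι ≫ f) := by
  obtain ⟨O, q, hO, hq, -, hcomp⟩ := exists_image sq U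
  refine ⟨O, hO.superset ⟨z, hz, rfl⟩, UnivOpenAtLib.universallyOpen_iff_forall.2 fun y => ?_⟩
  obtain ⟨w, rfl⟩ := q.surjective y
  refine UnivOpenAtLib.univOpenAt_of_comp ?_
  rw [hcomp]
  exact UnivOpenAtLib.universallyOpen_iff_forall.1 inferInstance w

theorem exists_flat_lfp_of_isPullback (sq : IsPullback a f' f g) [Flat g] [LocallyOfFinitePresentation g]
    (U : X'.Opens) (hf : Flat (U.ι ≫ f')) (hp : LocallyOfFinitePresentation (U.ι ≫ f')) (z : X') (hz : z ∈ U) :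
    ∃ O : X.Opens, a z ∈ O ∧ Flat (O.ι ≫ f) ∧ LocallyOfFinitePresentation (O.ι ≫ f) := by
  haveI : UniversallyOpen g := UniversallyOpen.of_flat g
  obtain ⟨O, q, hO, hq, hqι, hcomp⟩ := exists_image sq U
  haveI : Flat a := MorphismProperty.of_isPullback sq.flip ‹Flat g›
  haveI : LocallyOfFinitePresentation a := MorphismProperty.of_isPullback sq.flip ‹LocallyOfFinitePresentation g›
  haveI : Flat q := MorphismProperty.of_postcomp (W' := @IsOpenImmersion) @Flat q O.ι inferInstance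
    (by rw [hqι]; infer_instance)
  haveI : LocallyOfFinitePresentation q :=
    MorphismProperty.of_postcomp (W' := @IsOpenImmersion) @LocallyOfFinitePresentation q O.ι inferInstance
    (by rw [hqι]; infer_instance)
  haveI : Flat (q ≫ O.ι ≫ f) := by rw [hcomp]; infer_instance
  haveI : LocallyOfFinitePresentation (q ≫ O.ι ≫ f) := by rw [hcomp]; infer_instance
  exact ⟨O, hO.superset ⟨z, hz, rfl⟩,
    FppfSrc.of_precomp_fppf (P := @Flat) FppfSrc.descendsFppfSource_flat q (O.ι ≫ f) inferInstance,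
    FppfSrc.locallyOfFinitePresentation_of_precomp_fppf q (O.ι ≫ f)⟩

/-- An open of the base change near `z` transported to the canonical pullback of a restriction. -/
theorem exists_pullback_nhd {P : MorphismProperty Scheme.{u}} [IsZariskiLocalAtSource P]
    (sq : IsPullback a f' f g) (O : X.Opens) (U : X'.Opens) (hU : P (U.ι ≫ f')) (z : X') (hzO : a z ∈ O) (hzU : z ∈ U) :
    ∃ z' : ↑(pullback (O.ι ≫ f) g), O.ι (pullback.fst (O.ι ≫ f) g z') = a z ∧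
      ∃ U' : (pullback (O.ι ≫ f) g).Opens, z' ∈ U' ∧ P (U'.ι ≫ pullback.snd (O.ι ≫ f) g) := by
  let e := ((isPullback_morphismRestrict a O).paste_vert sq).isoPullback
  let z₁ : (a ⁻¹ᵁ O).toScheme := ⟨z, hzO⟩
  have h1 : e.hom ≫ pullback.fst (O.ι ≫ f) g = a ∣_ O := IsPullback.isoPullback_hom_fst _
  have h2 : e.hom ≫ pullback.snd (O.ι ≫ f) g = (a ⁻¹ᵁ O).ι ≫ f' := IsPullback.isoPullback_hom_snd _
  refine ⟨e.hom z₁, ?_, e.inv ⁻¹ᵁ ((a ⁻¹ᵁ O).ι ⁻¹ᵁ U), ?_, ?_⟩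
  · rw [← Scheme.Hom.comp_apply, ← Scheme.Hom.comp_apply, reassoc_of% h1, morphismRestrict_ι]
    rfl
  · show e.inv (e.hom z₁) ∈ (a ⁻¹ᵁ O).ι ⁻¹ᵁ U
    rw [← Scheme.Hom.comp_apply, Iso.hom_inv_id]
    exact hzU
  · let k := e.inv ≫ (a ⁻¹ᵁ O).ι
    have hk : k ≫ f' = pullback.snd (O.ι ≫ f) g := by
      simp only [k, Category.assoc, ← h2, Iso.inv_hom_id_assoc]
    show P ((k ⁻¹ᵁ U).ι ≫ _)
    rw [← hk, ← morphismRestrict_ι_assoc]
    exact IsZariskiLocalAtSource.comp hU _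

end Groth.Agent.MaxOpenLib
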