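import Groth.Agent.MaxOpenLib.Translate
/-!
The maximal open of the source on which a homomorphism is flat, smooth, etale or universally open.
-/

set_option autoImplicit false
set_option backward.isDefEq.respectTransparency false
set_option backward.isDefEq.respectTransparency.types false
set_option linter.style.haveILetI false

universe u

open CategoryTheory CategoryTheory.Limits MonoidalCategory CartesianMonoidalCategory MonObj GrpObj AlgebraicGeometry
  TopologicalSpace

noncomputable section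

namespace Groth.Agent.MaxOpenLib

variable {S : Scheme.{u}} {G H : Over S} [GrpObj G] [GrpObj H]

theorem source_conclusion (P : MorphismProperty Scheme.{u}) [P.IsStableUnderBaseChange] (u : G ⟶ H) [IsMonHom u]
    (V : G.left.Opens) (hV : P (V.ι ≫ u.left)) (hmax : ∀ W : G.left.Opens, P (W.ι ≫ u.left) → W ≤ V)
    (huo : UniversallyOpen (V.ι ≫ G.hom))
    (hdesc : ∀ U : (G ⊗ Over.mk (V.ι ≫ G.hom)).left.Opens, P (U.ι ≫ (u ▷ Over.mk (V.ι ≫ G.hom)).left) →
      ∀ z ∈ U, ∃ O : G.left.Opens, (fst G (Over.mk (V.ι ≫ G.hom))).left z ∈ O ∧ P (O.ι ≫ u.left)) :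
    IsOpen (G.hom.base '' (V : Set G.left)) ∧
    (∀ g ∈ V, ∀ p : ↥(𝟙_ (Over S)).left, (𝟙_ (Over S)).hom.base p = G.hom.base g → η[G].left.base p ∈ V) ∧
    (∀ g ∈ V, ι[G].left.base g ∈ V) ∧
    (∀ z : ↥(G ⊗ G).left, (fst G G).left.base z ∈ V → (snd G G).left.base z ∈ V → μ[G].left.base z ∈ V) :=
  conclusion_of_stable V huo fun t z =>
    ⟨mul_mem_of_fst_mem u V hV hdesc hmax t z, fst_mem_of_mul_mem u V hV hdesc hmax t z⟩

theorem desc_universallyOpen {T : Over S} (u : G ⟶ H) [UniversallyOpen T.hom] (U : (G ⊗ T).left.Opens)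
    (hU : UniversallyOpen (U.ι ≫ (u ▷ T).left)) (z : (G ⊗ T).left) (hz : z ∈ U) :
    ∃ O : G.left.Opens, (fst G T).left z ∈ O ∧ UniversallyOpen (O.ι ≫ u.left) := by
  haveI : UniversallyOpen (fst H T).left := inferInstanceAs (UniversallyOpen (pullback.fst H.hom T.hom))
  exact exists_universallyOpen_of_isPullback (isPullback_whiskerRight u T) U hU z hz

theorem desc_fppf {T : Over S} (u : G ⟶ H) [Flat T.hom] [LocallyOfFinitePresentation T.hom]
    (U : (G ⊗ T).left.Opens) (hf : Flat (U.ι ≫ (u ▷ T).left))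
    (hp : LocallyOfFinitePresentation (U.ι ≫ (u ▷ T).left)) (z : (G ⊗ T).left) (hz : z ∈ U) :
    ∃ O : G.left.Opens, (fst G T).left z ∈ O ∧ Flat (O.ι ≫ u.left) ∧ LocallyOfFinitePresentation (O.ι ≫ u.left) := by
  haveI : Flat (fst H T).left := inferInstanceAs (Flat (pullback.fst H.hom T.hom))
  haveI : LocallyOfFinitePresentation (fst H T).left :=
    inferInstanceAs (LocallyOfFinitePresentation (pullback.fst H.hom T.hom))
  exact exists_flat_lfp_of_isPullback (isPullback_whiskerRight u T) U hf hp z hz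

theorem desc_smooth {T : Over S} (u : G ⟶ H) [Flat T.hom] [LocallyOfFinitePresentation T.hom]
    (U : (G ⊗ T).left.Opens) (hU : Smooth (U.ι ≫ (u ▷ T).left)) (z : (G ⊗ T).left) (hz : z ∈ U) :
    ∃ O : G.left.Opens, (fst G T).left z ∈ O ∧ Smooth (O.ι ≫ u.left) := by
  obtain ⟨O, hzO, hOf, hOp⟩ := desc_fppf u U inferInstance inferInstance z hz
  obtain ⟨z', hz', h⟩ := exists_pullback_nhd (P := @Smooth) (isPullback_whiskerRight u T) O U hU z hzO hz
  obtain ⟨O', hO', hs⟩ := (PointBC.smooth_nhd_iff (O.ι ≫ u.left) (fst H T).left z' (Or.inl hOf)).1 h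
  refine ⟨O.ι ''ᵁ O', ⟨_, hO', hz'⟩, ?_⟩
  rw [← MorphismProperty.cancel_left_of_respectsIso @Smooth (O.ι.isoImage O').hom, Scheme.Hom.isoImage_hom_ι_assoc]
  exact hs

theorem desc_etale {T : Over S} (u : G ⟶ H) [Flat T.hom] [LocallyOfFinitePresentation T.hom]
    (U : (G ⊗ T).left.Opens) (hU : Etale (U.ι ≫ (u ▷ T).left)) (z : (G ⊗ T).left) (hz : z ∈ U) :
    ∃ O : G.left.Opens, (fst G T).left z ∈ O ∧ Etale (O.ι ≫ u.left) := by
  obtain ⟨O, hzO, hOf, hOp⟩ := desc_fppf u U inferInstance inferInstance z hz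
  obtain ⟨z', hz', h⟩ := exists_pullback_nhd (P := @Etale) (isPullback_whiskerRight u T) O U hU z hzO hz
  obtain ⟨O', hO', hs⟩ := (PointBC.etale_nhd_iff (O.ι ≫ u.left) (fst H T).left z').1 h
  refine ⟨O.ι ''ᵁ O', ⟨_, hO', hz'⟩, ?_⟩
  rw [← MorphismProperty.cancel_left_of_respectsIso @Etale (O.ι.isoImage O').hom, Scheme.Hom.isoImage_hom_ι_assoc]
  exact hs

theorem source_conclusion_fppf (u : G ⟶ H) [IsMonHom u]
    (hfl : Flat G.hom ∨ Flat H.hom) (hfp : LocallyOfFinitePresentation G.hom ∨ LocallyOfFinitePresentation H.hom)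
    (P : MorphismProperty Scheme.{u})
    (hP : (∀ (X Y : Scheme.{u}) (f : X ⟶ Y), P f ↔ (Flat f ∧ LocallyOfFinitePresentation f)) ∨
      (∀ (X Y : Scheme.{u}) (f : X ⟶ Y), P f ↔ Smooth f) ∨ (∀ (X Y : Scheme.{u}) (f : X ⟶ Y), P f ↔ Etale f))
    (V : G.left.Opens) (hV : P (V.ι ≫ u.left)) (hmax : ∀ W : G.left.Opens, P (W.ι ≫ u.left) → W ≤ V) :
    IsOpen (G.hom.base '' (V : Set G.left)) ∧
    (∀ g ∈ V, ∀ p : ↥(𝟙_ (Over S)).left, (𝟙_ (Over S)).hom.base p = G.hom.base g → η[G].left.base p ∈ V) ∧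
    (∀ g ∈ V, ι[G].left.base g ∈ V) ∧
    (∀ z : ↥(G ⊗ G).left, (fst G G).left.base z ∈ V → (snd G G).left.base z ∈ V → μ[G].left.base z ∈ V) := by
  have hVp : Flat (V.ι ≫ u.left) ∧ LocallyOfFinitePresentation (V.ι ≫ u.left) := by
    rcases hP with hP | hP | hP
    · exact (hP _ _ _).1 hV
    · haveI := (hP _ _ _).1 hV; exact ⟨inferInstance, inferInstance⟩
    · haveI := (hP _ _ _).1 hV; exact ⟨inferInstance, inferInstance⟩
  haveI := hVp.1
  haveI := hVp.2
  have hVS : V.ι ≫ G.hom = (V.ι ≫ u.left) ≫ H.hom := by rw [Category.assoc, Over.w]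
  haveI : Flat (V.ι ≫ G.hom) := by
    rcases hfl with h | h
    · infer_instance
    · rw [hVS]; infer_instance
  haveI : LocallyOfFinitePresentation (V.ι ≫ G.hom) := by
    rcases hfp with h | h
    · infer_instance
    · rw [hVS]; infer_instance
  haveI : UniversallyOpen (V.ι ≫ G.hom) := UniversallyOpen.of_flat _
  haveI : Flat (Over.mk (V.ι ≫ G.hom)).hom := ‹Flat (V.ι ≫ G.hom)›
  haveI : LocallyOfFinitePresentation (Over.mk (V.ι ≫ G.hom)).hom := ‹LocallyOfFinitePresentation (V.ι ≫ G.hom)›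
  rcases hP with hP | hP | hP
  · have e : P = (@Flat ⊓ @LocallyOfFinitePresentation : MorphismProperty Scheme.{u}) := by ext; exact hP _ _ _
    subst e
    exact source_conclusion _ u V hV hmax inferInstance fun U hU z hz => desc_fppf u U hU.1 hU.2 z hz
  · have e : P = (@Smooth : MorphismProperty Scheme.{u}) := by ext; exact hP _ _ _
    subst e
    exact source_conclusion _ u V hV hmax inferInstance fun U hU z hz => desc_smooth u U hU z hz
  · have e : P = (@Etale : MorphismProperty Scheme.{u}) := by ext; exact hP _ _ _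
    subst e
    exact source_conclusion _ u V hV hmax inferInstance fun U hU z hz => desc_etale u U hU z hz

theorem source_conclusion_universallyOpen (u : G ⟶ H) [IsMonHom u]
    (hG : UniversallyOpen G.hom ∨ UniversallyOpen H.hom)
    (V : G.left.Opens) (hV : UniversallyOpen (V.ι ≫ u.left))
    (hmax : ∀ W : G.left.Opens, UniversallyOpen (W.ι ≫ u.left) → W ≤ V) :
    IsOpen (G.hom.base '' (V : Set G.left)) ∧
    (∀ g ∈ V, ∀ p : ↥(𝟙_ (Over S)).left, (𝟙_ (Over S)).hom.base p = G.hom.base g → η[G].left.base p ∈ V) ∧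
    (∀ g ∈ V, ι[G].left.base g ∈ V) ∧
    (∀ z : ↥(G ⊗ G).left, (fst G G).left.base z ∈ V → (snd G G).left.base z ∈ V → μ[G].left.base z ∈ V) := by
  haveI : UniversallyOpen (V.ι ≫ G.hom) := by
    rcases hG with h | h
    · infer_instance
    · rw [show V.ι ≫ G.hom = (V.ι ≫ u.left) ≫ H.hom by rw [Category.assoc, Over.w]]; infer_instance
  haveI : UniversallyOpen (Over.mk (V.ι ≫ G.hom)).hom := ‹UniversallyOpen (V.ι ≫ G.hom)›
  exact source_conclusion _ u V hV hmax inferInstance fun U hU z hz => desc_universallyOpen u U hU z hz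

end Groth.Agent.MaxOpenLib
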