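import Groth.Agent.MaxOpenLib.Translate
/-!
The maximal open of the target over which a homomorphism has a property.
-/

set_option autoImplicit false
set_option backward.isDefEq.respectTransparency false
set_option backward.isDefEq.respectTransparency.types false
set_option linter.style.haveILetI false

universe u

open CategoryTheory CategoryTheory.Limits MonoidalCategory CartesianMonoidalCategory MonObj GrpObj AlgebraicGeometry
  TopologicalSpace

noncomputable section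

namespace Groth.Agent.MaxOpenLib

variable {P : MorphismProperty Scheme.{u}} [P.IsStableUnderBaseChange] [IsZariskiLocalAtTarget P]
  [P.DescendsAlong (@Flat ⊓ @Surjective ⊓ @QuasiCompact)]
  {S : Scheme.{u}} {G H T : Over S} [GrpObj G] [GrpObj H] [Flat T.hom] [UniversallyOpen T.hom]

theorem target_fst_mem_of_mul_mem (u : G ⟶ H) [IsMonHom u] (W : H.left.Opens) (hW : P (u.left ∣_ W))
    (hmax : ∀ W' : H.left.Opens, P (u.left ∣_ W') → W' ≤ W) (t : T ⟶ G) (z : (H ⊗ T).left)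
    (hz : (fst H T * (snd H T ≫ t ≫ u)).left z ∈ W) : (fst H T).left z ∈ W := by
  haveI : Flat (fst H T).left := inferInstanceAs (Flat (pullback.fst H.hom T.hom))
  haveI : UniversallyOpen (fst H T).left := inferInstanceAs (UniversallyOpen (pullback.fst H.hom T.hom))
  let W₀ := (fst H T).left ⁻¹ᵁ W
  have h₀ : P ((u ▷ T).left ∣_ W₀) := restrict_preimage_of_isPullback (isPullback_whiskerRight u T) W hW
  let φ := (trans t).hom.left
  let ψ := (trans (t ≫ u)).hom.left
  haveI : IsIso φ := (Over.forget S).map_isIso (trans t).hom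
  haveI : IsIso ψ := (Over.forget S).map_isIso (trans (t ≫ u)).hom
  have sq : IsPullback φ (u ▷ T).left (u ▷ T).left ψ :=
    IsPullback.of_horiz_isIso ⟨congrArg CommaMorphism.left (trans_comm u t)⟩
  have h₁ := maxOpen_target_eq (isPullback_whiskerRight u T) (fst H T).left.isOpenMap W hW hmax _
    (restrict_preimage_of_isPullback sq W₀ h₀)
  refine h₁ ?_
  show (fst H T).left (ψ z) ∈ W
  rw [← Scheme.Hom.comp_apply, ← Over.comp_left, trans_fst]
  exact hz

theorem target_mul_mem_of_fst_mem (u : G ⟶ H) [IsMonHom u] (W : H.left.Opens) (hW : P (u.left ∣_ W))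
    (hmax : ∀ W' : H.left.Opens, P (u.left ∣_ W') → W' ≤ W) (t : T ⟶ G) (z : (H ⊗ T).left)
    (hz : (fst H T).left z ∈ W) : (fst H T * (snd H T ≫ t ≫ u)).left z ∈ W := by
  have h1 := target_fst_mem_of_mul_mem u W hW hmax t⁻¹ ((trans (t ≫ u)).hom.left z)
  rw [← Scheme.Hom.comp_apply, ← Over.comp_left, ← Scheme.Hom.comp_apply, ← Over.comp_left, trans_fst] at h1
  refine h1 ?_
  have h2 : (trans (t ≫ u)).hom ≫ (fst H T * snd H T ≫ t⁻¹ ≫ u) = fst H T := by
    simp [trans, MonObj.comp_mul, GrpObj.inv_comp, GrpObj.comp_inv, _root_.mul_assoc]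
  rw [h2]; exact hz

omit T in
theorem target_conclusion [Flat G.hom] [UniversallyOpen G.hom] (u : G ⟶ H) [IsMonHom u] (W : H.left.Opens)
    (hW : P (u.left ∣_ W)) (hmax : ∀ W' : H.left.Opens, P (u.left ∣_ W') → W' ≤ W) :
    IsOpen (G.hom.base '' ((u.left ⁻¹ᵁ W : G.left.Opens) : Set G.left)) ∧
    (∀ g ∈ u.left ⁻¹ᵁ W, ∀ p : ↥(𝟙_ (Over S)).left, (𝟙_ (Over S)).hom.base p = G.hom.base g →
      η[G].left.base p ∈ u.left ⁻¹ᵁ W) ∧
    (∀ g ∈ u.left ⁻¹ᵁ W, ι[G].left.base g ∈ u.left ⁻¹ᵁ W) ∧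
    (∀ z : ↥(G ⊗ G).left, (fst G G).left.base z ∈ u.left ⁻¹ᵁ W → (snd G G).left.base z ∈ u.left ⁻¹ᵁ W →
      μ[G].left.base z ∈ u.left ⁻¹ᵁ W) := by
  have key : ∀ g : G.left, g ∈ u.left ⁻¹ᵁ W ↔ η[H].left (G.hom g) ∈ W := fun g => by
    let a : G ⟶ H := toUnit G ≫ η[H]
    have h1 : lift a (𝟙 G) ≫ fst H G = a := lift_fst a _
    have h2 : lift a (𝟙 G) ≫ (fst H G * (snd H G ≫ 𝟙 G ≫ u)) = u := by
      rw [MonObj.comp_mul, lift_fst, lift_snd_assoc, show a = (1 : G ⟶ H) from rfl, _root_.one_mul,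
        Category.id_comp, Category.id_comp]
    have e1 := target_mul_mem_of_fst_mem u W hW hmax (𝟙 G) ((lift a (𝟙 G)).left g)
    have e2 := target_fst_mem_of_mul_mem u W hW hmax (𝟙 G) ((lift a (𝟙 G)).left g)
    rw [← Scheme.Hom.comp_apply, ← Over.comp_left, ← Scheme.Hom.comp_apply, ← Over.comp_left, h1, h2] at e1 e2
    exact ⟨e2, e1⟩
  refine ⟨G.hom.isOpenMap _ (u.left ⁻¹ᵁ W).2, fun g hg p hp => ?_, fun g hg => ?_, fun z h₁ _ => ?_⟩
  · show u.left (η[G].left p) ∈ W
    rw [← Scheme.Hom.comp_apply, ← Over.comp_left, IsMonHom.one_hom]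
    convert (key g).1 hg using 2
    exact hp
  · rw [key] at hg ⊢
    rwa [← Scheme.Hom.comp_apply, Over.w]
  · rw [key] at h₁ ⊢
    rw [← Scheme.Hom.comp_apply, Over.w] at h₁ ⊢
    exact h₁

end Groth.Agent.MaxOpenLib
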