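import Groth.Agent.MaxOpenLib.Descent
import Mathlib.CategoryTheory.Monoidal.Cartesian.Over
import Mathlib.CategoryTheory.Monoidal.Cartesian.Grp
/-!
The maximal open on which a homomorphism of group schemes has a property is stable under translations.
-/

set_option autoImplicit false
set_option backward.isDefEq.respectTransparency false
set_option backward.isDefEq.respectTransparency.types false
set_option linter.style.haveILetI false

universe u

open CategoryTheory CategoryTheory.Limits MonoidalCategory CartesianMonoidalCategory MonObj GrpObj AlgebraicGeometry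
  TopologicalSpace

noncomputable section

namespace Groth.Agent.MaxOpenLib

theorem restrict_preimage_of_isPullback {P : MorphismProperty Scheme.{u}} [P.IsStableUnderBaseChange]
    {X Y X' Y' : Scheme.{u}} {a : X' ⟶ X} {f' : X' ⟶ Y'} {f : X ⟶ Y} {g : Y' ⟶ Y} (sq : IsPullback a f' f g)
    (W : Y.Opens) (h : P (f ∣_ W)) : P (f' ∣_ (g ⁻¹ᵁ W)) := by
  have s₁ : IsPullback ((f' ⁻¹ᵁ (g ⁻¹ᵁ W)).ι ≫ a) (f' ∣_ (g ⁻¹ᵁ W)) f ((g ∣_ W) ≫ W.ι) := by
    rw [morphismRestrict_ι]; exact (isPullback_morphismRestrict f' _).flip.paste_horiz sq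
  let a₁ := (isPullback_morphismRestrict f W).flip.lift ((f' ⁻¹ᵁ (g ⁻¹ᵁ W)).ι ≫ a) ((f' ∣_ (g ⁻¹ᵁ W)) ≫ (g ∣_ W))
    (by rw [s₁.w, Category.assoc])
  have s₂ : IsPullback a₁ (f' ∣_ (g ⁻¹ᵁ W)) (f ∣_ W) (g ∣_ W) :=
    IsPullback.of_right (by rw [IsPullback.lift_fst]; exact s₁)
      (IsPullback.lift_snd _ _ _ _) (isPullback_morphismRestrict f W).flip
  exact P.of_isPullback s₂ h

/-- The maximal open over which a morphism has `P` commutes with flat open base change. -/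
theorem maxOpen_target_eq {P : MorphismProperty Scheme.{u}} [P.IsStableUnderBaseChange]
    [IsZariskiLocalAtTarget P] [P.DescendsAlong (@Flat ⊓ @Surjective ⊓ @QuasiCompact)]
    {X Y X' Y' : Scheme.{u}} {a : X' ⟶ X} {f' : X' ⟶ Y'} {f : X ⟶ Y} {g : Y' ⟶ Y} (sq : IsPullback a f' f g)
    [Flat g] (hg : IsOpenMap g.base) (W : Y.Opens) (hW : P (f ∣_ W)) (hmax : ∀ W₀ : Y.Opens, P (f ∣_ W₀) → W₀ ≤ W)
    (W₁ : Y'.Opens) (hW₁ : P (f' ∣_ W₁)) :
    W₁ ≤ g ⁻¹ᵁ W :=
  fun w hw => hmax _ (restrict_image_of_isPullback sq hg W₁ hW₁) ⟨w, hw, rfl⟩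

variable {S : Scheme.{u}} {G H T : Over S} [GrpObj G] [GrpObj H]

/-- Right translation of `G × T` by a `T`-point of `G`. -/
def trans (t : T ⟶ G) : G ⊗ T ≅ G ⊗ T where
  hom := lift (fst G T * (snd G T ≫ t)) (snd G T)
  inv := lift (fst G T * (snd G T ≫ t)⁻¹) (snd G T)
  hom_inv_id := CartesianMonoidalCategory.hom_ext _ _
    (by simp [MonObj.comp_mul, GrpObj.comp_inv, _root_.mul_assoc]) (by simp)
  inv_hom_id := CartesianMonoidalCategory.hom_ext _ _
    (by simp [MonObj.comp_mul, GrpObj.comp_inv, _root_.mul_assoc]) (by simp)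

theorem trans_fst (t : T ⟶ G) : (trans t).hom ≫ fst G T = fst G T * (snd G T ≫ t) := lift_fst _ _

theorem trans_comm (u : G ⟶ H) [IsMonHom u] (t : T ⟶ G) :
    (trans t).hom ≫ (u ▷ T) = (u ▷ T) ≫ (trans (t ≫ u)).hom := by
  refine CartesianMonoidalCategory.hom_ext _ _ ?_ (by simp [trans])
  simp [trans, MonObj.comp_mul, MonObj.mul_comp]

theorem isPullback_whiskerRight (u : G ⟶ H) (T : Over S) :
    IsPullback (fst G T).left (u ▷ T).left u.left (fst H T).left := by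
  have h₁ : (u ▷ T).left ≫ pullback.snd H.hom T.hom = pullback.snd G.hom T.hom :=
    congrArg CommaMorphism.left (whiskerRight_snd u T)
  have h₂ : (u ▷ T).left ≫ pullback.fst H.hom T.hom = pullback.fst G.hom T.hom ≫ u.left :=
    congrArg CommaMorphism.left (whiskerRight_fst u T)
  refine IsPullback.of_bot ?_ h₂.symm (IsPullback.of_hasPullback H.hom T.hom)
  rw [Over.w, h₁]
  exact IsPullback.of_hasPullback G.hom T.hom

omit [GrpObj H] in
/-- If the translate of a point lies in the maximal open, so does the point. -/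
theorem fst_mem_of_mul_mem [GrpObj H] {P : MorphismProperty Scheme.{u}} [P.IsStableUnderBaseChange]
    (u : G ⟶ H) [IsMonHom u] (V : G.left.Opens) (hV : P (V.ι ≫ u.left))
    (hdesc : ∀ U : (G ⊗ T).left.Opens, P (U.ι ≫ (u ▷ T).left) → ∀ z ∈ U,
      ∃ O : G.left.Opens, (fst G T).left z ∈ O ∧ P (O.ι ≫ u.left))
    (hmax : ∀ W : G.left.Opens, P (W.ι ≫ u.left) → W ≤ V) (t : T ⟶ G) (z : (G ⊗ T).left)
    (hz : (fst G T * (snd G T ≫ t)).left z ∈ V) : (fst G T).left z ∈ V := by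
  haveI := MorphismProperty.IsStableUnderBaseChange.respectsIso (P := P)
  let U₀ := (fst G T).left ⁻¹ᵁ V
  have h₀ : P (U₀.ι ≫ (u ▷ T).left) :=
    P.of_isPullback ((isPullback_morphismRestrict (fst G T).left V).paste_vert (isPullback_whiskerRight u T)) hV
  let φ := (trans t).hom.left
  let ψ := (trans (t ≫ u)).hom.left
  haveI : IsIso φ := (Over.forget S).map_isIso (trans t).hom
  haveI : IsIso ψ := (Over.forget S).map_isIso (trans (t ≫ u)).hom
  have hc : φ ≫ (u ▷ T).left = (u ▷ T).left ≫ ψ := congrArg CommaMorphism.left (trans_comm u t)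
  let U := φ ⁻¹ᵁ U₀
  have hU : P (U.ι ≫ (u ▷ T).left) := by
    have h : P ((φ ∣_ U₀) ≫ U₀.ι ≫ (u ▷ T).left) := (P.cancel_left_of_respectsIso _ _).2 h₀
    rw [morphismRestrict_ι_assoc, hc, ← Category.assoc] at h
    exact (P.cancel_right_of_respectsIso _ _).1 h
  have hzU : z ∈ U := by
    show (fst G T).left (φ z) ∈ V
    rw [← Scheme.Hom.comp_apply, ← Over.comp_left, trans_fst]
    exact hz
  obtain ⟨O, hzO, hO⟩ := hdesc U hU z hzU
  exact hmax O hO hzO

theorem mul_mem_of_fst_mem {P : MorphismProperty Scheme.{u}} [P.IsStableUnderBaseChange]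
    (u : G ⟶ H) [IsMonHom u] (V : G.left.Opens) (hV : P (V.ι ≫ u.left))
    (hdesc : ∀ U : (G ⊗ T).left.Opens, P (U.ι ≫ (u ▷ T).left) → ∀ z ∈ U,
      ∃ O : G.left.Opens, (fst G T).left z ∈ O ∧ P (O.ι ≫ u.left))
    (hmax : ∀ W : G.left.Opens, P (W.ι ≫ u.left) → W ≤ V) (t : T ⟶ G) (z : (G ⊗ T).left)
    (hz : (fst G T).left z ∈ V) : (fst G T * (snd G T ≫ t)).left z ∈ V := by
  have h1 := fst_mem_of_mul_mem u V hV hdesc hmax t⁻¹ ((trans t).hom.left z)
  rw [← Scheme.Hom.comp_apply, ← Over.comp_left, ← Scheme.Hom.comp_apply, ← Over.comp_left, trans_fst] at h1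
  refine h1 ?_
  rwa [MonObj.comp_mul, trans_fst, ← Category.assoc, show (trans t).hom ≫ snd G T = snd G T from lift_snd _ _,
    GrpObj.comp_inv, _root_.mul_assoc, mul_inv_cancel, _root_.mul_one]

omit [GrpObj H] in
/-- An open stable under translation by its own points gives a subgroup on its image. -/
theorem conclusion_of_stable (V : G.left.Opens) (hV : UniversallyOpen (V.ι ≫ G.hom))
    (h : ∀ (t : Over.mk (V.ι ≫ G.hom) ⟶ G), ∀ z : (G ⊗ Over.mk (V.ι ≫ G.hom)).left,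
      (fst G _).left z ∈ V ↔ (fst G _ * (snd G _ ≫ t)).left z ∈ V) :
    IsOpen (G.hom.base '' (V : Set G.left)) ∧
    (∀ g ∈ V, ∀ p : ↥(𝟙_ (Over S)).left, (𝟙_ (Over S)).hom.base p = G.hom.base g → η[G].left.base p ∈ V) ∧
    (∀ g ∈ V, ι[G].left.base g ∈ V) ∧
    (∀ z : ↥(G ⊗ G).left, (fst G G).left.base z ∈ V → (snd G G).left.base z ∈ V → μ[G].left.base z ∈ V) := by
  let T : Over S := Over.mk (V.ι ≫ G.hom)
  let j : T ⟶ G := Over.homMk V.ι rfl
  have key : ∀ {B : Over S} (a : B ⟶ G) (b : B ⟶ T) (w : B.left), a.left w ∈ V ↔ (a * b ≫ j).left w ∈ V := by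
    intro B a b w
    have e := h j ((lift a b).left w)
    have h1 : lift a b ≫ fst G T = a := lift_fst a b
    have h2 : lift a b ≫ (fst G T * snd G T ≫ j) = a * b ≫ j := by
      rw [MonObj.comp_mul, lift_fst, lift_snd_assoc]
    change ((lift a b) ≫ fst G T).left w ∈ V ↔ ((lift a b) ≫ (fst G T * snd G T ≫ j)).left w ∈ V at e
    rwa [h1, h2] at e
  have hunit : ∀ g : T.left, (toUnit T ≫ η[G]).left g ∈ V := fun g => by
    refine (key (toUnit T ≫ η[G]) (𝟙 T) g).2 ?_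
    rw [Category.id_comp, show toUnit T ≫ η[G] = (1 : T ⟶ G) from rfl, _root_.one_mul]
    exact g.2
  refine ⟨?_, fun g hg p hp => ?_, fun g hg => ?_, fun z h₁ h₂ => ?_⟩
  · have := (V.ι ≫ G.hom).isOpenMap.isOpen_range
    rwa [Scheme.Hom.comp_base, TopCat.coe_comp, Set.range_comp, Scheme.Opens.range_ι] at this
  · have := hunit ⟨g, hg⟩
    rw [Over.comp_left, Scheme.Hom.comp_apply] at this
    convert this using 2
    exact hp
  · have e := key (j ≫ ι[G]) (𝟙 T) ⟨g, hg⟩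
    rw [Category.id_comp, show j ≫ ι[G] = j⁻¹ from rfl, inv_mul_cancel] at e
    exact e.2 (hunit ⟨g, hg⟩)
  · let U₀ := (snd G G).left ⁻¹ᵁ V
    let B : Over S := Over.mk (U₀.ι ≫ (G ⊗ G).hom)
    let i : B ⟶ G ⊗ G := Over.homMk U₀.ι rfl
    let l : B.left ⟶ T.left := IsOpenImmersion.lift V.ι (U₀.ι ≫ (snd G G).left) (by
      rintro _ ⟨w, rfl⟩; exact ⟨⟨_, w.2⟩, rfl⟩)
    have hl : l ≫ V.ι = U₀.ι ≫ (snd G G).left := IsOpenImmersion.lift_fac _ _ _
    let l' : B ⟶ T := Over.homMk l (by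
      show l ≫ V.ι ≫ G.hom = _
      rw [reassoc_of% hl, Over.w]; rfl)
    have hl' : l' ≫ j = i ≫ snd G G := Over.OverMorphism.ext hl
    have e := key (i ≫ fst G G) l' (show B.left from ⟨z, h₂⟩)
    rw [hl', ← MonObj.comp_mul, show fst G G * snd G G = μ[G] by simp [Hom.mul_def]] at e
    exact e.1 h₁

end Groth.Agent.MaxOpenLib
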